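import Mathlib

/-! Ghost maps in the derived category: long composites between bounded objects vanish. -/

set_option autoImplicit false

universe w v u

open CategoryTheory Limits Pretriangulated Triangulated

namespace Groth.Agent.GhostLib

variable {C : Type u} [Category.{v} C] [Abelian C]

section

variable [HasDerivedCategory.{w} C]

open DerivedCategory

/-- A map from an object `≤ q` to one `≥ q` which is zero on `H^q` is zero. -/
theorem eq_zero_of_homology {X Y : DerivedCategory C} (q : ℤ) [X.IsLE q] [Y.IsGE q] (f : X ⟶ Y)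
    (hf : (homologyFunctor C q).map f = 0) : f = 0 := by
  obtain ⟨K, _, ⟨e₁⟩⟩ := X.exists_iso_Q_obj_of_isLE q
  obtain ⟨L, _, ⟨e₂⟩⟩ := Y.exists_iso_Q_obj_of_isGE q
  have h0 : (homologyFunctor C q).map (e₁.inv ≫ f ≫ e₂.hom) = 0 := by simp [hf]
  obtain ⟨L', _, g, s, _, hg⟩ := left_fac_of_isStrictlyGE (e₁.inv ≫ f ≫ e₂.hom) q
  have hg0 : HomologicalComplex.homologyMap g q = 0 := by
    rw [hg, Functor.map_comp, ← cancel_mono ((homologyFunctor C q).map (Q.map s)), Category.assoc,
      ← Functor.map_comp, IsIso.inv_hom_id, CategoryTheory.Functor.map_id, Category.comp_id, zero_comp] at h0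
    have h1 := (homologyFunctorFactors C q).hom.naturality g
    simp only [Functor.comp_map, HomologicalComplex.homologyFunctor_map, h0, zero_comp] at h1
    exact (cancel_epi ((homologyFunctorFactors C q).hom.app K)).1 (h1.symm.trans comp_zero.symm)
  have hg' : g = 0 := by
    ext i
    rcases lt_trichotomy i q with hi | rfl | hi
    · exact (L'.isZero_of_isStrictlyGE q i hi).eq_of_tgt _ _
    · haveI := HomologicalComplex.isIso_iCycles K i (i + 1) (by simp)
        ((K.isZero_of_isStrictlyLE i (i + 1) (by lia)).eq_of_tgt _ _)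
      haveI := HomologicalComplex.isIso_homologyπ L' (i - 1) i (by simp)
        ((L'.isZero_of_isStrictlyGE i (i - 1) (by lia)).eq_of_src _ _)
      have hc : HomologicalComplex.cyclesMap g i = 0 := by
        rw [← cancel_mono (L'.homologyπ i), ← HomologicalComplex.homologyπ_naturality, hg0, comp_zero, zero_comp]
      have h2 := HomologicalComplex.cyclesMap_i g i
      rw [hc, zero_comp] at h2
      exact (cancel_epi (K.iCycles i)).1 (h2.symm.trans comp_zero.symm)
    · exact (K.isZero_of_isStrictlyLE q i hi).eq_of_src _ _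
  rw [hg', Functor.map_zero, zero_comp] at hg
  have h3 := congrArg (fun t => e₁.hom ≫ t ≫ e₂.inv) hg
  simpa using h3

/-- `φ` kills everything `≤ q`. -/
def Kills {X W : DerivedCategory C} (φ : X ⟶ W) (q : ℤ) : Prop :=
  ∀ (T : DerivedCategory C) (_ : T.IsLE q) (u : T ⟶ X), u ≫ φ = 0

theorem kills_of_isGE {X W : DerivedCategory C} (φ : X ⟶ W) (q a : ℤ) (h : q < a) [W.IsGE a] :
    Kills φ q := fun _ _ _ => TStructure.t.zero _ q a h

theorem Kills.eq_zero {X W : DerivedCategory C} {φ : X ⟶ W} {q : ℤ} (h : Kills φ q) [hX : X.IsLE q] :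
    φ = 0 := by simpa using h X hX (𝟙 X)

/-- Composing with a ghost map raises the killed degree by one. -/
theorem Kills.comp {X Y W : DerivedCategory C} {φ : Y ⟶ W} {q : ℤ} (h : Kills φ (q - 1)) (f : X ⟶ Y)
    (hf : (homologyFunctor C q).map f = 0) : Kills (f ≫ φ) q := by
  intro T hT u
  obtain ⟨A, B, hA, hB, i, p, δ, hmem⟩ := TStructure.t.exists_triangle Y (q - 1) q (by lia)
  haveI : B.IsGE q := ⟨hB⟩
  have h0 : (u ≫ f) ≫ p = 0 := eq_zero_of_homology q _ (by simp [hf])
  obtain ⟨v, hv⟩ : ∃ v : T ⟶ A, u ≫ f = v ≫ i := Triangle.coyoneda_exact₂ _ hmem (u ≫ f) h0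
  haveI : T.IsLE q := hT
  -- `v` lands in an object `≤ q - 1`
  have h1 : i ≫ φ = 0 := by simpa using h A ⟨hA⟩ i
  show u ≫ f ≫ φ = 0
  rw [← Category.assoc, hv, Category.assoc, h1, comp_zero]

end

end Groth.Agent.GhostLib
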