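import Groth.Agent.GhostLib.Basic

/-! Powers of an ideal killing the cohomology: `J^{n+m} ⊗ K → J^m ⊗ K` vanishes in the derived category. -/

set_option autoImplicit false
set_option backward.isDefEq.respectTransparency false

universe w u

open CategoryTheory Limits MonoidalCategory

namespace Groth.Agent.GhostLib

variable {A : Type u} [CommRing A] (J : Ideal A)

/-- `J^k ⊗ -`. -/
noncomputable abbrev T (k : ℕ) : ModuleCat.{u} A ⥤ ModuleCat.{u} A :=
  (curriedTensor (ModuleCat.{u} A)).obj (ModuleCat.of A ↥(J ^ k))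

/-- `J^k ⊗ K`. -/
noncomputable abbrev TK (k : ℕ) (K : CochainComplex (ModuleCat.{u} A) ℤ) : CochainComplex (ModuleCat.{u} A) ℤ :=
  ((T J k).mapHomologicalComplex (ComplexShape.up ℤ)).obj K

/-- The map induced by `J^k ⊆ J^l`. -/
noncomputable def tr {k l : ℕ} (h : l ≤ k) (K : CochainComplex (ModuleCat.{u} A) ℤ) : TK J k K ⟶ TK J l K :=
  (NatTrans.mapHomologicalComplex ((curriedTensor (ModuleCat.{u} A)).map
    (ModuleCat.ofHom (Submodule.inclusion (p := J ^ k) (p' := J ^ l) (Ideal.pow_le_pow_right h))))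
    (ComplexShape.up ℤ)).app K

theorem tr_comp {k l p : ℕ} (h : l ≤ k) (h' : p ≤ l) (K : CochainComplex (ModuleCat.{u} A) ℤ) :
    tr J h K ≫ tr J h' K = tr J (h'.trans h) K := by
  ext i : 1
  exact ModuleCat.hom_ext (TensorProduct.ext' fun x y => rfl)

/-- `J^k ⊗ M → M`. -/
noncomputable def mu (k : ℕ) (M : ModuleCat.{u} A) : (T J k).obj M ⟶ M :=
  ModuleCat.ofHom (TensorProduct.lift ((LinearMap.lsmul A M).comp (J ^ k).subtype))

theorem mu_naturality (k : ℕ) {M N : ModuleCat.{u} A} (f : M ⟶ N) :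
    (T J k).map f ≫ mu J k N = mu J k M ≫ f :=
  ModuleCat.hom_ext (TensorProduct.ext' fun x y => (f.hom.map_smul (x : A) y).symm)

theorem mu_injective (k : ℕ) (M : ModuleCat.{u} A) [Module.Projective A M] : Function.Injective (mu J k M) := by
  have h : (mu J k M).hom = (TensorProduct.lid A M).toLinearMap ∘ₗ (J ^ k).subtype.rTensor M :=
    TensorProduct.ext' fun x y => rfl
  have h2 := Module.Flat.rTensor_preserves_injective_linearMap (M := M) (J ^ k).subtype (J ^ k).injective_subtype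
  intro x y hxy
  change (mu J k M).hom x = (mu J k M).hom y at hxy
  rw [h] at hxy
  exact h2 ((TensorProduct.lid A M).injective hxy)

theorem mu_range (k : ℕ) (M : ModuleCat.{u} A) :
    LinearMap.range (mu J k M).hom = J ^ k • (⊤ : Submodule A M) := by
  refine le_antisymm ?_ (Submodule.smul_le.2 fun a ha y _ => ⟨(⟨a, ha⟩ : ↥(J ^ k)) ⊗ₜ[A] y, rfl⟩)
  rintro _ ⟨t, rfl⟩
  induction t using TensorProduct.induction_on with
  | zero => rw [map_zero]; exact zero_mem _
  | tmul x y => exact Submodule.smul_mem_smul x.2 (Submodule.mem_top (x := y))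
  | add x y hx hy => rw [map_add]; exact add_mem hx hy

/-- Cycles annihilating homology lands in boundaries. -/
theorem exists_preimage_of_kills (K : CochainComplex (ModuleCat.{u} A) ℤ) (q : ℤ) (x : A)
    (hx : ∀ c : ↑(K.homology q), x • c = 0) (z : K.X q) (hz : K.d q (q + 1) z = 0) :
    ∃ y : K.X (q - 1), K.d (q - 1) q y = x • z := by
  have e₁ : (ShortComplex.mk (K.iCycles q) (K.d q (q + 1)) (K.iCycles_d q (q + 1))).Exact :=
    ShortComplex.exact_of_f_is_kernel _ (K.cyclesIsKernel q (q + 1) (by simp))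
  obtain ⟨c, hc⟩ := (ShortComplex.moduleCat_exact_iff _).1 e₁ z hz
  have e₂ : (ShortComplex.mk (K.toCycles (q - 1) q) (K.homologyπ q) (K.toCycles_comp_homologyπ (q - 1) q)).Exact :=
    ShortComplex.exact_of_g_is_cokernel _ (K.homologyIsCokernel (q - 1) q (by simp))
  obtain ⟨y, hy⟩ := (ShortComplex.moduleCat_exact_iff _).1 e₂ (x • c) (by
    show (K.homologyπ q).hom (x • c) = 0
    rw [map_smul]
    exact hx _)
  refine ⟨y, ?_⟩
  rw [← K.toCycles_i (i := q - 1) (j := q)]
  show K.iCycles q (K.toCycles (q - 1) q y) = x • z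
  rw [show K.toCycles (q - 1) q y = x • c from hy]
  show (K.iCycles q).hom (x • c) = x • z
  rw [map_smul]
  exact congrArg (x • ·) hc

variable [IsNoetherianRing A] (K : CochainComplex (ModuleCat.{u} A) ℤ)
  [∀ q, Module.Finite A (K.X q)] [∀ q, Module.Projective A (K.X q)]
  (hJ : ∀ q : ℤ, ∀ x ∈ J, ∀ c : ↑(K.homology q), x • c = 0)

include hJ in
theorem exists_ghost (q : ℤ) : ∃ c : ℕ, ∀ (k : ℕ) (d : ℕ) (_ : c ≤ d),
    HomologicalComplex.homologyMap (tr J (Nat.le_add_left k d) K) q = 0 := by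
  let Z : Submodule A (K.X q) := LinearMap.ker (K.d q (q + 1)).hom
  let B : Submodule A (K.X q) := LinearMap.range (K.d (q - 1) q).hom
  obtain ⟨c₁, hc₁⟩ := J.exists_pow_inf_eq_pow_smul Z
  have hJZ : J • Z ≤ B := Submodule.smul_le.2 fun x hx z hz =>
    exists_preimage_of_kills K q x (hJ q x hx) z hz
  refine ⟨c₁ + 1, fun k d hd => ?_⟩
  set f := tr J (Nat.le_add_left k d) K
  rw [← cancel_epi ((TK J (d + k) K).homologyπ q), comp_zero, HomologicalComplex.homologyπ_naturality]
  ext t
  show (TK J k K).homologyπ q (HomologicalComplex.cyclesMap f q t) = 0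
  set z' : (TK J (d + k) K).X q := (TK J (d + k) K).iCycles q t
  have hz0 : (TK J (d + k) K).d q (q + 1) z' = 0 := by
    show ((TK J (d + k) K).iCycles q ≫ (TK J (d + k) K).d q (q + 1)) t = 0
    rw [HomologicalComplex.iCycles_d]
    rfl
  set z : K.X q := mu J (d + k) (K.X q) z'
  have hzZ : z ∈ Z := by
    show K.d q (q + 1) (mu J (d + k) (K.X q) z') = 0
    rw [← ConcreteCategory.comp_apply, ← mu_naturality]
    show mu J (d + k) (K.X (q + 1)) ((TK J (d + k) K).d q (q + 1) z') = 0
    rw [hz0]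
    exact map_zero (mu J (d + k) (K.X (q + 1))).hom
  have hzJ : z ∈ J ^ (d + k) • (⊤ : Submodule A (K.X q)) ⊓ Z := ⟨mu_range J (d + k) (K.X q) ▸ ⟨z', rfl⟩, hzZ⟩
  rw [hc₁ (d + k) (by omega)] at hzJ
  have h1 : z ∈ J ^ k • B := by
    have h2 : z ∈ J ^ (d + k - c₁) • Z := Submodule.smul_mono le_rfl inf_le_right hzJ
    obtain ⟨e, he⟩ := Nat.exists_eq_add_of_le (show k + 1 ≤ d + k - c₁ by omega)
    rw [he] at h2
    have h3 : z ∈ J ^ (k + 1) • Z := Submodule.smul_mono_left (Ideal.pow_le_pow_right (Nat.le_add_right _ _)) h2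
    rw [pow_succ, Submodule.mul_smul] at h3
    exact Submodule.smul_mono le_rfl hJZ h3
  rw [show B = (⊤ : Submodule A (K.X (q - 1))).map (K.d (q - 1) q).hom from (Submodule.map_top _).symm,
    ← Submodule.map_smul''] at h1
  obtain ⟨y, hy, hyz⟩ := h1
  rw [← mu_range] at hy
  obtain ⟨y', rfl⟩ := hy
  have hb : (TK J k K).toCycles (q - 1) q y' = HomologicalComplex.cyclesMap f q t := by
    apply (ModuleCat.mono_iff_injective ((TK J k K).iCycles q)).1 inferInstance
    rw [← ConcreteCategory.comp_apply, HomologicalComplex.toCycles_i, ← ConcreteCategory.comp_apply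
      (HomologicalComplex.cyclesMap f q), HomologicalComplex.cyclesMap_i, ConcreteCategory.comp_apply]
    apply mu_injective J k (K.X q)
    show ((T J k).map (K.d (q - 1) q) ≫ mu J k (K.X q)) y' = mu J k (K.X q) (f.f q z')
    rw [mu_naturality]
    refine (hyz : _ = z).trans ?_
    show mu J (d + k) (K.X q) z' = (f.f q ≫ mu J k (K.X q)) z'
    refine congrArg (fun φ : (T J (d + k)).obj (K.X q) ⟶ K.X q => φ z') ?_
    exact ModuleCat.hom_ext (TensorProduct.ext' fun x y => rfl)
  rw [← hb, ← ConcreteCategory.comp_apply, HomologicalComplex.toCycles_comp_homologyπ]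
  rfl

variable [HasDerivedCategory.{w} (ModuleCat.{u} A)]

include hJ in
theorem exists_zero (a b : ℤ) (hK : ∀ q : ℤ, q < a ∨ b < q → IsZero (K.X q)) :
    ∃ n : ℕ, ∀ m : ℕ, DerivedCategory.Q.map (tr J (Nat.le_add_left m n) K) = 0 := by
  haveI : ∀ k, (TK J k K).IsStrictlyGE a := fun k => by
    rw [CochainComplex.isStrictlyGE_iff]
    exact fun i hi => (T J k).map_isZero (hK i (Or.inl hi))
  haveI : ∀ k, (TK J k K).IsStrictlyLE b := fun k => by
    rw [CochainComplex.isStrictlyLE_iff]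
    exact fun i hi => (T J k).map_isZero (hK i (Or.inr hi))
  suffices key : ∀ r : ℕ, ∃ n : ℕ, ∀ m : ℕ,
      Kills (DerivedCategory.Q.map (tr J (Nat.le_add_left m n) K)) (a - 1 + r) by
    obtain ⟨n, hn⟩ := key (b - (a - 1)).toNat
    refine ⟨n, fun m => ?_⟩
    haveI : (DerivedCategory.Q.obj (TK J (n + m) K)).IsLE (a - 1 + (b - (a - 1)).toNat) :=
      DerivedCategory.TStructure.t.isLE_of_le _ b _ (by omega)
    exact (hn m).eq_zero
  intro r
  induction r with
  | zero => exact ⟨0, fun m => kills_of_isGE _ _ a (by omega)⟩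
  | succ r ih =>
    obtain ⟨n, hn⟩ := ih
    obtain ⟨c, hc⟩ := exists_ghost J K hJ (a - 1 + (r + 1 : ℕ))
    refine ⟨c + n, fun m => ?_⟩
    have hg : (DerivedCategory.homologyFunctor (ModuleCat.{u} A) (a - 1 + (r + 1 : ℕ))).map
        (DerivedCategory.Q.map (tr J (Nat.le_add_left (n + m) c) K)) = 0 := by
      have h1 := (DerivedCategory.homologyFunctorFactors (ModuleCat.{u} A) (a - 1 + (r + 1 : ℕ))).hom.naturality
        (tr J (Nat.le_add_left (n + m) c) K)
      simp only [Functor.comp_map, HomologicalComplex.homologyFunctor_map] at h1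
      rw [hc (n + m) c le_rfl, comp_zero] at h1
      rw [← Category.comp_id ((DerivedCategory.homologyFunctor (ModuleCat.{u} A) _).map _)]
      refine Eq.trans (congrArg (_ ≫ ·) (Iso.hom_inv_id_app (DerivedCategory.homologyFunctorFactors (ModuleCat.{u} A) _) _).symm) ?_
      exact ((Category.assoc _ _ _).symm.trans (congrArg (· ≫ _) h1)).trans zero_comp
    have h2 := Kills.comp (q := a - 1 + (r + 1 : ℕ))
      (by rw [show a - 1 + ((r + 1 : ℕ) : ℤ) - 1 = a - 1 + (r : ℤ) by omega]; exact hn m) _ hg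
    rw [← Functor.map_comp, tr_comp] at h2
    have hcongr : ∀ (k : ℕ) (h : m ≤ k), k = c + (n + m) →
        Kills (DerivedCategory.Q.map (tr J h K)) (a - 1 + (r + 1 : ℕ)) := by
      rintro k h rfl
      exact h2
    exact hcongr _ _ (Nat.add_assoc c n m)

end Groth.Agent.GhostLib
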